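import Cfsg.Agent.H94.ONT.H1.RAll
import Cfsg.Agent.H94.ONT.H2.RAll
import Cfsg.Agent.H94.ONT.H3.RAll

/-!
# The involutory generators of the presented O'Nan group generate a group of order at most 3753792 (helper94)

A tower of coset enumerations (helper10's replay certificates) for the sub-presentation
`⟨a, …, f | Coxeter relations, a f = (c d)^4⟩`: `⟨a, c, d, f⟩` over `1` (32), `⟨a, c, d, e, f⟩` over
`⟨a, c, d, f⟩` (21), `⟨a, …, f⟩` over `⟨a, c, d, e, f⟩` (5586).
-/

set_option autoImplicit false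

namespace Cfsg.Agent.H94.ONT

open Cfsg.Agent.H35 Cfsg.Spor Cfsg.Agent.H10

theorem h1_bound : Finite (WG h1_rws h1_prels) ∧ Nat.card (WG h1_rws h1_prels) ≤ 32 := by
  have hy : RHyp h1_rd (swGrp (wgGen h1_rws h1_prels) h1_rsw) (wgGen h1_rws h1_prels) := by
    refine ⟨wg_inv _ _, on_gof_gi, by decide, fun p hp => wrapRow_of_le _ _ p hp, ?_, ?_,
      h1_h0, by decide⟩
    · exact circTab_valid _ (wg_inv _ _) _ (wg_full_one _ _) h1_circT h1_ccert h1_circ_ok
    · exact hcTab_valid _ (wg_inv _ _) _ h1_rsw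
        (fun w hw => mem_swGrp _ _ w hw) h1_hc1T h1_hc2T _
        (fun c hc => allR_sound _ _ _ 0 h1_hc_ok c (Nat.zero_le _) (by omega) hc)
  have hb := replay_bound hy on_gens_all (wg_closure _ _) (by decide) (by decide) h1_rall
  exact card_le_of_trivial (wgGen h1_rws h1_prels) 32 hb

theorem h2_bound : Finite (WG h2_rws h2_prels) ∧ Nat.card (WG h2_rws h2_prels) ≤ 21 * 32 := by
  have hy : RHyp h2_rd (swGrp (wgGen h2_rws h2_prels) h2_rsw) (wgGen h2_rws h2_prels) := by
    refine ⟨wg_inv _ _, on_gof_gi, by decide, fun p hp => wrapRow_of_le _ _ p hp, ?_, ?_,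
      h2_h0, by decide⟩
    · exact circTab_valid _ (wg_inv _ _) _ (wg_full_one _ _) h2_circT h2_ccert h2_circ_ok
    · exact hcTab_valid _ (wg_inv _ _) _ h2_rsw
        (fun w hw => mem_swGrp _ _ w hw) h2_hc1T h2_hc2T _
        (fun c hc => allR_sound _ _ _ 0 h2_hc_ok c (Nat.zero_le _) (by omega) hc)
  have hb := replay_bound hy on_gens_all (wg_closure _ _) (by decide) (by decide) h2_rall
  obtain ⟨φ, hφ⟩ := sub_hom h1_S (wgGen h2_rws h2_prels) (wg_inv _ _) h2_rws h2_prels
    h1_rws h1_prels (wg_rws _ _) (wg_prels _ _) (by decide)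
  have := h1_bound.1
  exact card_le_tower _ 21 hb φ
    (swGrp_le_range _ (wgGen h1_rws h1_prels) h1_S φ hφ h2_rsw (by decide)) _ h1_bound.2

theorem h3_bound : Finite (WG h3_rws h3_prels) ∧
    Nat.card (WG h3_rws h3_prels) ≤ 5586 * (21 * 32) := by
  have hy : RHyp h3_rd (swGrp (wgGen h3_rws h3_prels) h3_rsw) (wgGen h3_rws h3_prels) := by
    refine ⟨wg_inv _ _, on_gof_gi, by decide, fun p hp => wrapRow_of_le _ _ p hp, ?_, ?_,
      h3_h0, by decide⟩
    · exact circTab_valid _ (wg_inv _ _) _ (wg_full_one _ _) h3_circT h3_ccert h3_circ_ok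
    · exact hcTab_valid _ (wg_inv _ _) _ h3_rsw
        (fun w hw => mem_swGrp _ _ w hw) h3_hc1T h3_hc2T _
        (fun c hc => allR_sound _ _ _ 0 h3_hc_ok c (Nat.zero_le _) (by omega) hc)
  have hb := replay_bound hy on_gens_all (wg_closure _ _) (by decide) (by decide) h3_rall
  obtain ⟨φ, hφ⟩ := sub_hom h2_S (wgGen h3_rws h3_prels) (wg_inv _ _) h3_rws h3_prels
    h2_rws h2_prels (wg_rws _ _) (wg_prels _ _) (by decide)
  have := h2_bound.1
  exact card_le_tower _ 5586 hb φ
    (swGrp_le_range _ (wgGen h2_rws h2_prels) h2_S φ hφ h3_rsw (by decide)) _ h2_bound.2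

theorem cut_inv (x : OnL) : cutGen h3_S on_gen x * cutGen h3_S on_gen x = 1 := by
  unfold cutGen
  by_cases h : h3_S x = true
  · rw [if_pos h]
    revert h
    cases x <;> intro h
    · exact absurd h (by decide)
    · exact on_node_sq .a (by decide)
    · exact on_node_sq .b (by decide)
    · exact on_node_sq .c (by decide)
    · exact on_node_sq .d (by decide)
    · exact on_node_sq .e (by decide)
    · exact on_node_sq .f (by decide)
    · exact absurd h (by decide)
  · rw [if_neg h]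
    exact one_mul 1

theorem hT_sub : ∀ r ∈ hT_rws, r ∈ on_rws := by decide

theorem hT_S : ∀ r ∈ hT_rws, (r.1.all h3_S && r.2.all h3_S) = true := by decide

theorem hT_rel : ∀ r ∈ hT_rws, uw on_gen (r.1 ++ r.2.reverse) = 1 := by
  intro r hr
  have h1 := on_rel r (hT_sub r hr)
  have hS := hT_S r hr
  rw [Bool.and_eq_true] at hS
  have hS' : (r.1 ++ r.2.reverse).all h3_S = true := by
    rw [List.all_append, List.all_reverse, hS.1, hS.2]
    rfl
  rw [← uw_cutGen h3_S on_gen _ hS', uw_append, uw_reverse _ cut_inv, uw_cutGen _ _ _ hS.1,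
    uw_cutGen _ _ _ hS.2, h1, mul_inv_cancel]

theorem top_sat : (∀ r ∈ h3_rws, uw (cutGen h3_S on_gen) (r.1 ++ r.2.reverse) = 1) ∧
    (∀ r ∈ h3_prels, uw (cutGen h3_S on_gen) r.1 ^ r.2.1 = 1) :=
  sub_sat h3_S on_gen hT_rws [] h3_rws h3_prels hT_rel (by simp) (by decide)

theorem exists_hom : ∃ φ : WG h3_rws h3_prels →* ON,
    ∀ x, φ (wgGen h3_rws h3_prels x) = cutGen h3_S on_gen x :=
  wg_UP h3_rws h3_prels (cutGen h3_S on_gen) cut_inv top_sat.1 top_sat.2

/-- the subgroup generated by the involutory generators is finite of order at most `3753792` -/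
theorem on_H_bound : Finite (swGrp on_gen [[.a], [.b], [.c], [.d], [.e], [.f]]) ∧
    Nat.card (swGrp on_gen [[.a], [.b], [.c], [.d], [.e], [.f]]) ≤ 3753792 := by
  obtain ⟨φ, hφ⟩ := exists_hom
  have hle : swGrp on_gen [[.a], [.b], [.c], [.d], [.e], [.f]] ≤ φ.range :=
    swGrp_le_range on_gen (wgGen h3_rws h3_prels) h3_S φ
      (fun x hx => by rw [hφ]; unfold cutGen; rw [if_pos hx]) _ (by decide)
  have hfin := h3_bound.1
  have hr : Finite φ.range :=
    Finite.of_surjective φ.rangeRestrict φ.rangeRestrict_surjective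
  have hHfin : Finite (swGrp on_gen [[.a], [.b], [.c], [.d], [.e], [.f]]) :=
    Finite.of_injective (Subgroup.inclusion hle) (Subgroup.inclusion_injective hle)
  refine ⟨hHfin, ?_⟩
  have h1 : Nat.card (swGrp on_gen [[.a], [.b], [.c], [.d], [.e], [.f]]) ≤ Nat.card φ.range :=
    Nat.card_le_card_of_injective (Subgroup.inclusion hle) (Subgroup.inclusion_injective hle)
  have h2 : Nat.card φ.range ≤ Nat.card (WG h3_rws h3_prels) :=
    Nat.card_le_card_of_surjective φ.rangeRestrict φ.rangeRestrict_surjective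
  have h3 := h3_bound.2
  have h4 : 5586 * (21 * 32) = 3753792 := by norm_num
  omega

end Cfsg.Agent.H94.ONT
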